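import Groth.Agent.FComplLib.AdicUnit
import Groth.Agent.LocalCrit.Completion
import Mathlib

/-!
# Flatness of completions of localizations
-/

universe u

namespace Groth.Agent.ComplFlat7

open AdicCompletion (evalₐ)
open Groth.Agent

variable {A T : Type u} [CommRing A] [CommRing T] [IsNoetherianRing A] [Algebra A T]

theorem flat_complMap_of_isLocalization (M : Submonoid A) [IsLocalization M T] (J : Ideal A) (K : Ideal T)
    (hK : K = J.map (algebraMap A T)) :
    (FSch.complMap J K (algebraMap A T) hK.ge).Flat := by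
  subst hK
  have : IsNoetherianRing T := IsLocalization.isNoetherianRing M T inferInstance
  let B := AdicCompletion J A
  let R := AdicCompletion (J.map (algebraMap A T)) T
  let φ := FSch.complMap J (J.map (algebraMap A T)) (algebraMap A T) le_rfl
  letI : Algebra B R := φ.toAlgebra
  show Module.Flat B R
  have : IsNoetherianRing B := FComplLib.isNoetherianRing_adicCompletion _
  have : IsNoetherianRing R := FComplLib.isNoetherianRing_adicCompletion _
  let ι : A →+* B := algebraMap A B
  let JT := J.map (algebraMap A T)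
  let KB : Ideal B := J.map ι
  have hι : ∀ a, φ (ι a) = algebraMap T R (algebraMap A T a) := fun a =>
    FComplLib.complMap_algebraMap J (J.map (algebraMap A T)) (algebraMap A T) le_rfl a
  have hKB : KB.map φ = JT.map (algebraMap T R) := by
    rw [Ideal.map_map, Ideal.map_map]
    exact congrArg (fun k => Ideal.map k J) (RingHom.ext hι)
  have hjac : KB.map (algebraMap B R) ≤ Ideal.jacobson ⊥ := by
    rw [RingHom.algebraMap_toAlgebra, hKB]
    have : IsAdicComplete (JT.map (algebraMap T R)) R :=
      AdicCompletion.isAdicComplete_self _ (IsNoetherian.noetherian JT)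
    exact IsAdicComplete.le_jacobson_bot _
  refine LocalCrit.flat_of_forall_quotient_pow (R := B) (B := R) (M := R) KB hjac fun n => ?_
  let S : Submonoid B := M.map ι
  have hS : ∀ s : S, IsUnit (algebraMap B R s) := by
    rintro ⟨_, t, ht, rfl⟩
    change IsUnit (φ (ι t))
    rw [hι]
    exact (IsLocalization.map_units T (⟨t, ht⟩ : M)).map _
  let C := Localization S
  have : Module.Flat B C := IsLocalization.flat C S
  let α : C →ₐ[B] R :=
    { IsLocalization.lift hS with commutes' := fun b => IsLocalization.lift_eq hS b }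
  have hpow : (KB ^ n).map (algebraMap B R) = (JT ^ n).map (algebraMap T R) := by
    rw [Ideal.map_pow, Ideal.map_pow, RingHom.algebraMap_toAlgebra, hKB]
  refine LocalCrit.keepsInjective_of_bijective_mod (KB ^ n) α (fun x => ?_) fun c hc => ?_
  · obtain ⟨z, hz⟩ := Ideal.Quotient.mk_surjective (evalₐ JT n x)
    obtain ⟨⟨a, s⟩, hs⟩ := IsLocalization.surj M z
    refine ⟨IsLocalization.mk' C (ι a) ⟨ι s, Submonoid.mem_map_of_mem ι s.2⟩, ?_⟩
    have hα : α (IsLocalization.mk' C (ι a) ⟨ι s, Submonoid.mem_map_of_mem ι s.2⟩) =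
        algebraMap T R z := by
      change IsLocalization.lift hS _ = _
      rw [IsLocalization.lift_mk'_spec]
      change φ (ι a) = φ (ι s) * _
      rw [hι, hι, ← map_mul, mul_comm, hs]
    rw [hpow, hα, ← FComplLib.evalₐ_eq_zero_iff JT (IsNoetherian.noetherian _), map_sub,
      FComplLib.evalₐ_algebraMap, hz, sub_self]
  · obtain ⟨⟨b, s⟩, rfl⟩ := IsLocalization.mk'_surjective (M := S) c
    rw [IsLocalization.mk'_mem_map_algebraMap_iff S]
    have hb : φ b ∈ (JT ^ n).map (algebraMap T R) := by
      rw [hpow] at hc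
      have e : algebraMap B R s * α (IsLocalization.mk' C b s) = algebraMap B R b := by
        rw [← α.commutes, ← map_mul, IsLocalization.mk'_spec', α.commutes]
      change algebraMap B R b ∈ _
      exact e ▸ Ideal.mul_mem_left _ _ hc
    rw [← FComplLib.evalₐ_eq_zero_iff JT (IsNoetherian.noetherian _)] at hb
    obtain ⟨a, ha⟩ := Ideal.Quotient.mk_surjective (evalₐ J n b)
    have ha0 : algebraMap A T a ∈ (J ^ n).map (algebraMap A T) := by
      have h1 := FComplLib.evalₐ_complMap J JT (algebraMap A T) le_rfl n b
      rw [hb, ← ha, Ideal.quotientMap_mk] at h1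
      rw [Ideal.map_pow]
      exact Ideal.Quotient.eq_zero_iff_mem.mp h1.symm
    obtain ⟨t, ht, hta⟩ := (IsLocalization.algebraMap_mem_map_algebraMap_iff M T _ a).mp ha0
    refine ⟨ι t, Submonoid.mem_map_of_mem ι ht, ?_⟩
    have h2 : KB ^ n = (J ^ n).map ι := (Ideal.map_pow _ _ _).symm
    rw [h2, ← FComplLib.evalₐ_eq_zero_iff J (IsNoetherian.noetherian _), map_mul,
      FComplLib.evalₐ_algebraMap, ← ha, ← map_mul, Ideal.Quotient.eq_zero_iff_mem]
    exact hta

end Groth.Agent.ComplFlat7
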